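import Cfsg.Agent.Spor.RuaA1.D0

set_option autoImplicit false
set_option maxRecDepth 100000000
set_option Elab.async false

namespace Cfsg.Agent.Spor.RuaA1

theorem ok0 : Net.okb 1 n0 = true := by decide +kernel

theorem ok1 : Net.okb 1 n1 = true := by decide +kernel

theorem ok2 : Net.okb 1 n2 = true := by decide +kernel

theorem ok3 : Net.okb 1 n3 = true := by decide +kernel

theorem ok4 : Net.okb 1 n4 = true := by decide +kernel

theorem rel0 : T.rel 1 [1, 1] 0 1 = true := by decide +kernel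

theorem rel1 : T.rel 1 [2, 2] 0 1 = true := by decide +kernel

theorem rel2 : T.rel 1 [2, 4, 4, 5, 7, 2, 8, 2, 4, 4, 5, 7, 2, 8, 2, 4, 4, 5, 7, 2, 8, 2, 4, 4, 5, 7, 2, 8] 0 1 = true := by decide +kernel

theorem rel3 : T.rel 1 [4, 8, 7, 7, 8, 2, 4, 4, 5, 7, 2, 4, 4, 5, 7, 2, 4, 4, 5, 7, 2, 8, 2, 4, 8, 7, 7, 2, 5, 5, 2, 4, 8, 7, 7, 2] 0 1 = true := by decide +kernel

theorem rel4 : T.rel 1 [8, 2, 4, 4, 5, 7, 2, 8, 2, 4, 4, 5, 4, 5, 7, 2, 8, 2, 4, 8, 7, 7, 2, 5, 2, 4, 8, 7, 7, 2, 5, 5, 2, 4, 8, 7, 7, 2] 0 1 = true := by decide +kernel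

theorem rel5 : T.rel 1 [8, 2, 4, 4, 5, 7, 2, 4, 8, 7, 7, 8, 2, 4, 4, 5, 7, 2, 8, 2, 4, 4, 5, 7, 2, 4, 4, 5, 7, 8, 2, 4, 4, 5, 7, 2] 0 1 = true := by decide +kernel

theorem rel6 : T.rel 1 [4, 8, 7, 8, 7, 7, 8, 2, 4, 4, 5, 7, 2, 5, 2, 4, 8, 7, 7, 2, 8, 2, 4, 4, 5, 4, 5, 7, 2, 8] 0 1 = true := by decide +kernel

theorem rel7 : T.rel 1 [4, 8, 7, 8, 7, 8, 7, 8, 7, 7] 0 1 = true := by decide +kernel

theorem rel8 : T.rel 1 [4, 8, 7, 8, 7, 7, 2, 4, 4, 5, 7, 2, 8, 4, 8, 7, 7, 2, 4, 4, 5, 7, 2, 8, 2, 4, 4, 5, 7, 2, 8, 4, 8, 7, 7, 2, 4, 4, 5, 7, 2, 8] 0 1 = true := by decide +kernel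

theorem rel9 : T.rel 1 [4, 8, 7, 7, 2, 4, 4, 5, 7, 2, 8, 4, 8, 7, 7, 2, 4, 4, 5, 7, 2, 8, 4, 8, 7, 7, 2, 4, 4, 5, 7, 2, 8, 4, 8, 7, 7, 2, 4, 4, 5, 7, 2, 8] 0 1 = true := by decide +kernel

theorem rel10 : T.rel 1 [5, 5, 5, 5] 0 1 = true := by decide +kernel

theorem rel11 : T.rel 1 [5, 4, 8, 7, 7, 8, 8, 2, 4, 4, 5, 7, 2, 4, 4, 5, 7, 5, 2, 4, 8, 7, 7, 2] 0 1 = true := by decide +kernel

theorem rel12 : T.rel 1 [5, 5, 4, 8, 7, 7, 2, 4, 8, 7, 8, 7, 8, 7, 7, 2, 5, 5, 2, 4, 8, 7, 7, 2, 4, 4, 5, 7] 0 1 = true := by decide +kernel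

theorem rel13 : T.rel 1 [5, 2, 4, 4, 5, 4, 5, 4, 5, 4, 5, 7, 2, 8] 0 1 = true := by decide +kernel

theorem rel14 : T.rel 1 [4, 2, 4, 8, 7, 7, 2, 8, 7, 7, 8, 2, 4, 4, 5, 7, 2, 5, 4, 4, 5, 7] 0 1 = true := by decide +kernel

theorem rel15 : T.rel 1 [4, 5, 5, 4, 2, 4, 8, 7, 7, 2, 5, 4, 4, 5, 7, 2, 4, 4, 5, 7, 2] 0 1 = true := by decide +kernel

theorem rel16 : T.rel 1 [4, 5, 2, 4, 8, 7, 7, 2, 8, 7, 2, 4, 4, 5, 7, 2, 4, 4, 5, 7, 8, 2, 4, 4, 5, 4, 5, 7, 2] 0 1 = true := by decide +kernel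

theorem rel17 : T.rel 1 [4, 5, 7, 7, 2, 8, 2, 8, 7, 5, 4] 0 1 = true := by decide +kernel

theorem rel18 : T.rel 1 [2, 4, 2, 4, 2, 5, 7, 2, 7, 7, 2, 8, 4, 8, 2, 7, 2, 7, 2, 4, 5] 0 1 = true := by decide +kernel

theorem rel19 : T.rel 1 [2, 4, 5, 4, 4, 2, 7, 7, 8, 7, 2, 4, 5, 2, 4, 4, 5, 7, 2, 7, 2, 4, 8, 7, 7, 2, 4, 8, 7] 0 1 = true := by decide +kernel

theorem rel20 : T.rel 1 [4, 4, 4, 4, 4] 0 1 = true := by decide +kernel

theorem rel21 : T.rel 1 [3, 3, 3, 3] 0 1 = true := by decide +kernel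

theorem rel22 : T.rel 1 [4, 5, 7, 5, 6, 4, 4, 6] 0 1 = true := by decide +kernel

theorem rel23 : T.rel 1 [3, 8, 8, 2, 8, 4, 8, 7, 7, 2] 0 1 = true := by decide +kernel

theorem rel24 : T.rel 1 [1, 2, 4, 3, 7, 7, 2, 1, 2, 4, 4, 8, 4, 2] 0 1 = true := by decide +kernel

theorem rel25 : T.rel 1 [1, 2, 7, 3, 4, 4, 2, 1, 8, 8, 2, 5, 2] 0 1 = true := by decide +kernel

theorem rel26 : T.rel 1 [1, 4, 1, 7, 7, 8, 2, 5, 2, 7, 7] 0 1 = true := by decide +kernel

theorem rel27 : T.rel 1 [1, 2, 1, 7, 8, 6, 4, 2, 1, 8, 8, 2, 8, 4, 5, 4, 4, 2] 0 1 = true := by decide +kernel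

theorem rel28 : T.rel 1 [1, 2, 1, 4, 2, 1, 2, 7, 2, 1, 4, 8, 7, 7, 8, 2, 4, 4, 2, 5] 0 1 = true := by decide +kernel

theorem rel29 : T.rel 1 [2, 7, 2, 8, 7, 7, 3, 5, 6, 4, 2, 4, 2, 3] 0 1 = true := by decide +kernel

theorem rel30 : T.rel 1 [5, 7, 2, 3, 2, 6, 6, 7, 5] 0 1 = true := by decide +kernel

theorem rel31 : T.rel 1 [1, 2, 1, 4, 2, 7, 6, 2, 1, 2, 4, 2, 4, 2, 1, 2, 8, 7, 2, 8, 7, 5, 7, 5, 2] 0 1 = true := by decide +kernel

theorem rel32 : T.rel 1 [2, 8, 4, 5, 2, 3, 2, 4, 4, 2, 6] 0 1 = true := by decide +kernel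

theorem rel33 : T.rel 1 [1, 2, 4, 2, 7, 2, 1, 5, 7, 1, 7, 2, 4, 4, 2, 4, 2, 1, 7, 5, 7, 7, 5] 0 1 = true := by decide +kernel

theorem rel34 : T.rel 1 [2, 1, 2, 1] 0 1 = true := by decide +kernel

theorem rel35 : T.rel 1 [6, 1, 3, 1] 0 1 = true := by decide +kernel

theorem rel36 : T.rel 1 [7, 1, 4, 1] 0 1 = true := by decide +kernel

theorem rel37 : T.rel 1 [8, 1, 5, 1] 0 1 = true := by decide +kernel

theorem rel38 : T.rel 1 [6, 2, 3, 2] 0 1 = true := by decide +kernel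

theorem rel39 : T.rel 1 [7, 2, 4, 2] 0 1 = true := by decide +kernel

theorem rel40 : T.rel 1 [8, 2, 5, 2] 0 1 = true := by decide +kernel

theorem rel41 : T.rel 1 [7, 6, 4, 3] 0 1 = true := by decide +kernel

theorem rel42 : T.rel 1 [8, 6, 5, 3] 0 1 = true := by decide +kernel

theorem rel43 : T.rel 1 [8, 7, 5, 4] 0 1 = true := by decide +kernel

theorem hcov : T.treeCov (ones 1) L 1 = true := by decide +kernel

theorem hg : lall (fun z => band (memL L z) (band (sub (ones 1) (T.let z).cl) (T.closed (ones 1) z))) gs = true := by decide +kernel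

theorem hivk : ivOk (2 * 2) EX IV = true := by decide +kernel

theorem hrt : RT.ok (2 * 2) EX RL = true := by decide +kernel

theorem hdefs : defs F 56 = true := by decide +kernel

noncomputable def st0_l : List Nat := [nat_lit 0x100000100000003, nat_lit 0x120000100001403, nat_lit 0x140000100002403, nat_lit 0x160000100003c03, nat_lit 0x180000200000003, nat_lit 0x1c0000200001c03, nat_lit 0x1e0000200002403, nat_lit 0x220000200003c03, nat_lit 0x240000300000003, nat_lit 0x280000300002403, nat_lit 0x2a0000300003c03, nat_lit 0x2c0000400003c03, nat_lit 0x2e0000400002c03, nat_lit 0x600000a000028001c80002400002000038000ac08, nat_lit 0x890001880022c03, nat_lit 0x870004200022803, nat_lit 0x260001580023003, nat_lit 0x8a0004700021c001080008c000480000980000c000030000b8001dc0b, nat_lit 0x11a000930004200024c04, nat_lit 0x2b0004980003803, nat_lit 0x4900021402, nat_lit 0x7f0004a0000b803, nat_lit 0x870004a00022403, nat_lit 0x240004b80000003, nat_lit 0x7b0004b80001403,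 nat_lit 0x280004b80002403, nat_lit 0xc0004b00001803, nat_lit 0x1380002c0004d00008804, nat_lit 0x3c000a60004e00021c04, nat_lit 0xa60004e0000b003, nat_lit 0x4f00020402, nat_lit 0x200005000007003, nat_lit 0x5100020c02, nat_lit 0x5200003002, nat_lit 0x1a0005300002803, nat_lit 0x540001f402, nat_lit 0x5700008002, nat_lit 0x5a00006802, nat_lit 0x1320000e0005d8002e400172000040005980002408, nat_lit 0x770005e8001d003, nat_lit 0xab0005e00003803, nat_lit 0x5e0002dc02, nat_lit 0x5f00005802, nat_lit 0x180006080000003, nat_lit 0x600002ac02, nat_lit 0x630001e402, nat_lit 0x3a8002c400184000c800059800000000e000010000010002c800164000c90005880032000006000150006280004412, nat_lit 0x74000668001c403, nat_lit 0x6600031402, nat_lit 0x6600005002, nat_lit 0x6700002002, nat_lit 0xc00022000710006a80000c001a4000d1000088001c40015a000ad000658002b00d, nat_lit 0x80035c02, nat_lit 0x320006c8000cc03, nat_lit 0x360006d8000dc03, nat_lit 0x380006d8000e403, nat_lit 0x3e0006d8000fc03,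 nat_lit 0x400001a0000c803, nat_lit 0x420001a0000dc03, nat_lit 0x440001b0000c803, nat_lit 0x480001b0000e403, nat_lit 0x4a0001b0000ec03, nat_lit 0x4c0006e80013403, nat_lit 0x4c0001b0000fc03, nat_lit 0x4e0006f80013c03, nat_lit 0x4e0001c0000c803, nat_lit 0x500001c0000fc03, nat_lit 0x520001c0000ec03, nat_lit 0x540001c0000f403, nat_lit 0x560001d0000f403, nat_lit 0xac0003a0001a800104001c6000330001b80013408, nat_lit 0xf70002b8003f403, nat_lit 0x48000268003f003, nat_lit 0xf5000770003f003, nat_lit 0x46000268003f803, nat_lit 0x3e0000a800051000818003f4001fc001040002300011c09, nat_lit 0x1ca00047000830003e8000ac000f60007f80013008, nat_lit 0x4a0008400039403, nat_lit 0xea000858000d803, nat_lit 0x860000e802, nat_lit 0xf7000868000e403, nat_lit 0x56000868000f403, nat_lit 0x500008800041003, nat_lit 0x54000880003fc03, nat_lit 0x8900040002, nat_lit 0x8a0003d402, nat_lit 0x8b00015002, nat_lit 0x8b0003e402, nat_lit 0x2200011c0020c00119000748004700023e0003c0001c80013c0a,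 nat_lit 0xe90001c0000c8001e40004e0008e0003bc001c2000ee000768003bc0b, nat_lit 0x119000918000f803, nat_lit 0x910003a402, nat_lit 0x11b0009100012003, nat_lit 0x36000920000f003, nat_lit 0x23400129000958000e404, nat_lit 0x44000958000c803, nat_lit 0x950000d802, nat_lit 0x9600049c02, nat_lit 0x9700039c02, nat_lit 0x9700048402, nat_lit 0x4c80009e000f0000270000e000064000f20009b0003600006600131000988004380d, nat_lit 0x4e0009c8000c803, nat_lit 0x9c0000e002, nat_lit 0x9d0003cc02, nat_lit 0x43c00260000320009a80036400066000db000190004fc002680013f0009a0004f800066001300009e0000c8001b200033000988000c80026a000330006d8000c819, nat_lit 0x1980050402, nat_lit 0x580006c80016403, nat_lit 0x58000a180016403, nat_lit 0x5a000a280016c03, nat_lit 0x5a000a380016c03, nat_lit 0x5c000a280017403, nat_lit 0x5c000a380017403, nat_lit 0x5e000a280017c03, nat_lit 0x5e000a380017c03, nat_lit 0x62000a380018c03, nat_lit 0x640002d00016003, nat_lit 0x64000a580019403, nat_lit 0x660002d00017403,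 nat_lit 0x680002d00017c03, nat_lit 0x6a000a48001ac03, nat_lit 0x6a000a58001ac03, nat_lit 0x6a0002d00018403, nat_lit 0x198000d6001630003000051c0028a0014700031800554000c40005f000a880054c0d, nat_lit 0xb200056c02, nat_lit 0xb200019802, nat_lit 0xa70005300029c0005c0002f8005a4000d600160000af000580000d400168000b38001700e, nat_lit 0x167000b580016c03, nat_lit 0x60000b500017003, nat_lit 0x15d000b680019403, nat_lit 0x6a000b60005a403, nat_lit 0xb600017802, nat_lit 0xb700018002, nat_lit 0xb80001a002, nat_lit 0xb90001a802, nat_lit 0xac000190002940017a000a50005e8000ca001790002d0005dc002ee00174000a50005ec0e, nat_lit 0x2f800064000be00055c04, nat_lit 0x160002fc00065000be8005fc05, nat_lit 0x2c80060402, nat_lit 0x6c0006c8001b403, nat_lit 0x6c000a18001b403, nat_lit 0x6c000c18001b403, nat_lit 0x6e000c48001bc03, nat_lit 0x1b8000d8001420006c000508000da0006f000c50001b80030e00185000c38001b00d, nat_lit 0x634000da00189000c480061800310001860003780063409, nat_lit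 0xc70001b802, nat_lit 0x640000da001900003680064005, nat_lit 0x3680064c02]
theorem st0 : band (steps F IV RT base st0_l 56) (Nat.beq (Nat.add 56 (llen st0_l)) 203) = true := by decide +kernel

theorem ep0a : T.treePath [] (Nat.shiftLeft 1 0) 1 = true := by decide +kernel

theorem ep0b : T.treePath [] (Nat.shiftLeft 1 0) 1 = true := by decide +kernel

theorem ep0c : band (lall (fun z => Nat.ble z 255) ([] ++ 1 :: [])) (concl F IV 203 0x36001 (encA ([] ++ 1 :: []) 0)) = true := by decide +kernel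

theorem ep0d : band (Rule.ok (2 * 2) EX [] ⟨lapp [] [], [], 0, false⟩) (band (lall (memL L) []) (lall (memL L) [])) = true := by decide +kernel

theorem cov1 : T.cover 1 [(Nat.shiftLeft 1 0)] = true := by decide +kernel

theorem tl1 : Nat.beq (T.let 1).tt 0 = true := by decide +kernel

theorem ep1a : T.treePath [] (Nat.shiftLeft 1 0) 1 = true := by decide +kernel

theorem ep1b : T.treePath [] (Nat.shiftLeft 1 0) 1 = true := by decide +kernel

theorem ep1c : band (lall (fun z => Nat.ble z 255) ([] ++ 2 :: [])) (concl F IV 203 0x50801 (encA ([] ++ 2 :: []) 0)) = true := by decide +kernel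

theorem ep1d : band (Rule.ok (2 * 2) EX [] ⟨lapp [] [], [], 0, false⟩) (band (lall (memL L) []) (lall (memL L) [])) = true := by decide +kernel

theorem cov2 : T.cover 2 [(Nat.shiftLeft 1 0)] = true := by decide +kernel

theorem tl2 : Nat.beq (T.let 2).tt 0 = true := by decide +kernel

theorem ep2a : T.treePath [] (Nat.shiftLeft 1 0) 1 = true := by decide +kernel

theorem ep2b : T.treePath [] (Nat.shiftLeft 1 0) 1 = true := by decide +kernel

theorem ep2c : band (lall (fun z => Nat.ble z 255) ([] ++ 3 :: [])) (concl F IV 203 0x60801 (encA ([] ++ 3 :: []) 0)) = true := by decide +kernel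

theorem ep2d : band (Rule.ok (2 * 2) EX [] ⟨lapp [] [], [], 0, false⟩) (band (lall (memL L) []) (lall (memL L) [])) = true := by decide +kernel

theorem cov3 : T.cover 3 [(Nat.shiftLeft 1 0)] = true := by decide +kernel

theorem tl3 : Nat.beq (T.let 3).tt 0 = true := by decide +kernel

theorem ep3a : T.treePath [] (Nat.shiftLeft 1 0) 1 = true := by decide +kernel

theorem ep3b : T.treePath [] (Nat.shiftLeft 1 0) 1 = true := by decide +kernel

theorem ep3c : band (lall (fun z => Nat.ble z 255) ([] ++ 4 :: [])) (concl F IV 203 0x65001 (encA ([] ++ 4 :: []) 0)) = true := by decide +kernel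

theorem ep3d : band (Rule.ok (2 * 2) EX [] ⟨lapp [] [], [], 0, false⟩) (band (lall (memL L) []) (lall (memL L) [])) = true := by decide +kernel

theorem cov4 : T.cover 4 [(Nat.shiftLeft 1 0)] = true := by decide +kernel

theorem tl4 : Nat.beq (T.let 4).tt 0 = true := by decide +kernel

theorem rot5_1 : T.rot 5 [7, 7, 2, 1, 2, 4, 4, 6, 7, 2, 1, 2, 7] (sel (ones 1) ip5 1) = true := by decide +kernel

theorem rot5_1r : band (Rule.ok (2 * 2) EX RL ⟨5 :: [7, 7, 2, 1, 2, 4, 4, 6, 7, 2, 1, 2, 7], [2, 6], 22, false⟩) (lall (memL L) [7, 7, 2, 1, 2, 4, 4, 6, 7, 2, 1, 2, 7]) = true := by decide +kernel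

theorem cov5 : T.cover 5 [(sel (ones 1) ip5 1)] = true := by decide +kernel

theorem tl5 : Nat.beq (T.let 5).tt 0 = true := by decide +kernel

theorem rot6_1 : T.rot 6 [1, 3, 1] (sel (ones 1) ip6 1) = true := by decide +kernel

theorem rot6_1r : band (Rule.ok (2 * 2) EX RL ⟨6 :: [1, 3, 1], [], 33, true⟩) (lall (memL L) [1, 3, 1]) = true := by decide +kernel

theorem cov6 : T.cover 6 [(sel (ones 1) ip6 1)] = true := by decide +kernel

theorem tl6 : Nat.beq (T.let 6).tt 0 = true := by decide +kernel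

theorem rot7_1 : T.rot 7 [1, 4, 1] (sel (ones 1) ip7 1) = true := by decide +kernel

theorem rot7_1r : band (Rule.ok (2 * 2) EX RL ⟨7 :: [1, 4, 1], [], 34, true⟩) (lall (memL L) [1, 4, 1]) = true := by decide +kernel

theorem cov7 : T.cover 7 [(sel (ones 1) ip7 1)] = true := by decide +kernel

theorem tl7 : Nat.beq (T.let 7).tt 0 = true := by decide +kernel

theorem rot8_1 : T.rot 8 [4, 2, 1, 2, 4, 3, 7, 7, 2, 1, 2, 4, 4] (sel (ones 1) ip8 1) = true := by decide +kernel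

theorem rot8_1r : band (Rule.ok (2 * 2) EX RL ⟨8 :: [4, 2, 1, 2, 4, 3, 7, 7, 2, 1, 2, 4, 4], [2, 6, 9], 22, true⟩) (lall (memL L) [4, 2, 1, 2, 4, 3, 7, 7, 2, 1, 2, 4, 4]) = true := by decide +kernel

theorem cov8 : T.cover 8 [(sel (ones 1) ip8 1)] = true := by decide +kernel

theorem tl8 : Nat.beq (T.let 8).tt 0 = true := by decide +kernel

end Cfsg.Agent.Spor.RuaA1
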